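import Cfsg.Agent.Helper16.MajorCount
import Cfsg.Agent.Helper16.Contribution5
import Cfsg.Agent.Helper16.Contribution3

/-!
# Olsson's theorem `l(b_z) ≤ 2 ⇒ k(B) ≤ p^d` : definitions

`LatData p b` : a `ℤ`-basis `φ 0, φ 1` (a *basic set*) of the lattice spanned by the `p`-regular parts
`θ⁰ = cut p 1 θ` of the characters `θ` of a block `b` of rank `2`, with the decomposition numbers `x`.

`RedData p b` : the dual ("projective") basis `f 0, f 1`, the Cartan matrix `C = ∑ x xᵀ` (reduced as a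
binary quadratic form) and `g = p^d C⁻¹`.
-/

set_option autoImplicit false
set_option linter.unusedSectionVars false
set_option linter.unusedVariables false

noncomputable section

namespace Cfsg.Agent.Helper78.Olsson

open Cfsg
open scoped ComplexConjugate
open Cfsg.Agent.S4426 (cut)

/-- a binary form `[[a, b], [b, c]]` is reduced when `0 ≤ 2 b ≤ a ≤ c`. -/
def IsReduced (C : Matrix (Fin 2) (Fin 2) ℤ) : Prop :=
  0 ≤ 2 * C 0 1 ∧ 2 * C 0 1 ≤ C 0 0 ∧ C 0 0 ≤ C 1 1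

section HLevel

variable {H : Type*} [Group H] [Fintype H]

/-- the Cartan matrix `∑_θ x_θ x_θᵀ` of a family of decomposition numbers. -/
def cartan (x : IrrCharacter H → Fin 2 → ℤ) : Matrix (Fin 2) (Fin 2) ℤ :=
  fun i j => ∑ θ : IrrCharacter H, x θ i * x θ j

/-- lattice data: a `ℤ`-basis `φ` of the lattice spanned by the `θ⁰`, `θ ∈ b`. -/
structure LatData (p : ℕ) (b : Set (IrrCharacter H)) where
  φ : Fin 2 → H → ℂ
  x : IrrCharacter H → Fin 2 → ℤ
  A : Fin 2 → IrrCharacter H → ℤ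
  hx0 : ∀ θ : IrrCharacter H, θ ∉ b → x θ = 0
  hA0 : ∀ (i : Fin 2) (θ : IrrCharacter H), θ ∉ b → A i θ = 0
  hx : ∀ θ : IrrCharacter H, θ ∈ b → ∀ h : H,
    cut p 1 (θ : H → ℂ) h = (x θ 0 : ℂ) * φ 0 h + (x θ 1 : ℂ) * φ 1 h
  hA : ∀ (i : Fin 2) (h : H),
    φ i h = ∑ θ : IrrCharacter H, (A i θ : ℂ) * cut p 1 (θ : H → ℂ) h
  hli : LinearIndependent ℂ φ

/-- the Cartan matrix w.r.t. the basic set. -/
def LatData.C {p : ℕ} {b : Set (IrrCharacter H)} (L : LatData p b) : Matrix (Fin 2) (Fin 2) ℤ :=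
  cartan L.x

/-- the dual basis `f i = ∑_j C i j • φ j`. -/
def LatData.dual {p : ℕ} {b : Set (IrrCharacter H)} (L : LatData p b) (i : Fin 2) :
    H → ℂ :=
  fun h => ∑ j : Fin 2, (L.C i j : ℂ) * L.φ j h

/-- reduced dual data. -/
structure RedData (p : ℕ) (b : Set (IrrCharacter H)) where
  f : Fin 2 → H → ℂ
  x : IrrCharacter H → Fin 2 → ℤ
  g : Matrix (Fin 2) (Fin 2) ℤ
  hcl : ∀ i : Fin 2, IsClassFunction H (f i)
  hcut : ∀ i : Fin 2, cut p 1 (f i) = f i
  hinner : ∀ (i : Fin 2) (θ : IrrCharacter H), classInner (f i) (θ : H → ℂ) = (x θ i : ℂ)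
  hx0 : ∀ θ : IrrCharacter H, θ ∉ b → x θ = 0
  hgs : g 0 1 = g 1 0
  hCg : cartan x * g = ((p ^ blockDefect p b : ℕ) : ℤ) • (1 : Matrix (Fin 2) (Fin 2) ℤ)
  hexp : ∀ θ : IrrCharacter H, θ ∈ b → ∀ h : H,
    ((p ^ blockDefect p b : ℕ) : ℂ) * cut p 1 (θ : H → ℂ) h =
      ∑ i : Fin 2, ∑ j : Fin 2, (x θ i : ℂ) * (g i j : ℂ) * f j h
  hdet : (p : ℤ) ∣ g.det
  hred : IsReduced (cartan x)
  hpos : 0 < cartan x 0 0

/-- the Cartan matrix of reduced data. -/
def RedData.C {p : ℕ} {b : Set (IrrCharacter H)} (D : RedData p b) : Matrix (Fin 2) (Fin 2) ℤ :=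
  cartan D.x

end HLevel

section GLevel

variable {G : Type*} [Group G] [Fintype G]

/-- the generalized decomposition numbers (up to conjugation) of `χ` at the subsection `(x, b)`
w.r.t. the dual basis `D.f`. -/
def rowE {p : ℕ} {H : Subgroup G} [Fintype H] {b : Set (IrrCharacter H)}
    (D : RedData p b) (x : G) (χ : G → ℂ) (i : Fin 2) : ℂ :=
  classInner (D.f i) (fun c : H => χ (x * (c : G)))

/-- the units mod `p ^ n`. -/
def unitsRange (p n : ℕ) : Finset ℕ :=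
  (Finset.range (p ^ n)).filter (fun γ => Nat.Coprime (p ^ n) γ)

end GLevel

end Cfsg.Agent.Helper78.Olsson

end
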