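import Cfsg.Agent.Helper78.Olsson.RedData
import Cfsg.Agent.Helper50.OlssonR2
import Cfsg.Agent.Helper10.OlssonR1
import Cfsg.Agent.Helper86.OlssonR3
import Cfsg.Agent.Helper85.OlssonVLEM
import Cfsg.Agent.Helper66.OlssonDIAGaux
import Cfsg.Agent.Helper55.OlssonMAINaux
import Cfsg.Agent.Helper73.Olsson.AVG
import Cfsg.Agent.Helper79.OlssonDIAGabs
import Cfsg.Agent.Helper35.OlssonARITH

/-!
# Olsson's theorem: `k(B) ≤ p^d` for a major subsection `(y, b)` with `l(b) = 2`

Pieces: (LAT) Helper79, (RED) Helper48, (REB) Helper23, (GRAM)/(RK1) Helper20, (CG)/(DUAL) Helper55,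
(R1) Helper10, (R2) Helper50, (R3) Helper86, (VLEM) Helper85, (AVG) Helper73, (DIAGabs) Helper79,
(ARITH) Helper35, (MAIN) Helper55, (DIAG) Helper66.
-/

set_option autoImplicit false
set_option linter.style.haveILetI false
set_option linter.unusedSectionVars false
set_option linter.unusedVariables false

noncomputable section

namespace Cfsg.Agent.Helper78.Olsson

open Cfsg
open scoped ComplexConjugate
open Cfsg.Agent.S4426 (cut)
open Cfsg.Agent.Helper16 (contribE)

section GLevel

variable {G : Type*} [Group G] [Fintype G] {M : Ideal AlgInt} {p : ℕ}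

/-- (DIAG) the diagonal case. -/
theorem card_block_le_of_diag [Fact p.Prime] (hM : IsPModular p M) {B : Set (IrrCharacter G)}
    (hB : IsPBlock M B) (H : Subgroup G) [Fintype H] (yH : H)
    (hyc : yH ∈ Subgroup.center H) (hHy : H = Subgroup.centralizer ({(yH : G)} : Set G))
    (n : ℕ) (hn : 1 ≤ n) (hy : orderOf (yH : G) ∣ p ^ n) {b : Set (IrrCharacter H)}
    (hind : IsInducedBlock M H b B) (hdef : blockDefect p b = blockDefect p B)
    (D : RedData p b) (e : ℕ) (he : e < blockDefect p B)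
    (h00 : D.C 0 0 = ((p ^ e : ℕ) : ℤ)) (h01 : D.C 0 1 = 0)
    (h11 : D.C 1 1 = ((p ^ blockDefect p B : ℕ) : ℤ))
    (g00 : D.g 0 0 = ((p ^ (blockDefect p B - e) : ℕ) : ℤ)) (g01 : D.g 0 1 = 0)
    (g10 : D.g 1 0 = 0) (g11 : D.g 1 1 = 1) :
    Nat.card B ≤ p ^ blockDefect p B := by
  have hpr : p.Prime := Fact.out
  exact Helper66.Olsson.card_block_le_of_diag_of hM hB H yH hyc hHy n hn hy hind hdef D e he h00 h01
    h11 g00 g01 g10 g11
    (fun x hx hH i j => Helper10.Olsson.sum_rowE_mul_conj x hx H hH D i j)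
    (fun x χ ψ => Helper86.Olsson.defect_mul_contribE_eq H D x χ ψ)
    (fun γ hγ => Helper85.Olsson.major_facts hM hB H yH hyc hHy n hy hind hdef γ hγ)
    (fun S T0 hT0 A μ hμ e d hed a1 a2 a3 a4 a5 a6 =>
      Helper79.Olsson.card_le_of_rows_diag hpr hM n S T0 hT0 A μ hμ e d hed a1 a2 a3 a4 a5 a6)

/-- **Olsson**: `k(B) ≤ p^d` for a major subsection `(y, b)` with `l(b) = 2`. -/
theorem card_block_le_of_blockRank_eq_two [Fact p.Prime] (hM : IsPModular p M)
    {B : Set (IrrCharacter G)}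
    (hB : IsPBlock M B) (H : Subgroup G) [Fintype H] (yH : H)
    (hyc : yH ∈ Subgroup.center H) (hHy : H = Subgroup.centralizer ({(yH : G)} : Set G))
    (n : ℕ) (hy : orderOf (yH : G) ∣ p ^ n) {b : Set (IrrCharacter H)}
    (hind : IsInducedBlock M H b B) (hdef : blockDefect p b = blockDefect p B)
    (hl : blockRank p b = 2) :
    Nat.card B ≤ p ^ blockDefect p B := by
  have hpr : p.Prime := Fact.out
  obtain ⟨D⟩ := exists_redData hM hind.1 hl
  have hy' : orderOf (yH : G) ∣ p ^ (n + 1) := dvd_trans hy (pow_dvd_pow p (Nat.le_succ n))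
  have hmain := Helper55.Olsson.card_block_le_cartan_of hM hB H yH hyc hHy (n + 1) (Nat.le_add_left 1 n) hy' hind
      hdef D (fun S A μ hμ c horth hnz =>
        Helper73.Olsson.card_le_of_rows hpr (n + 1) S A μ hμ c horth hnz)
  have hCs : D.C 0 1 = D.C 1 0 := by
    unfold RedData.C cartan
    exact Finset.sum_congr rfl (fun θ _ => mul_comm _ _)
  have hCg := D.hCg
  rw [hdef] at hCg
  rcases Helper35.Olsson.arith hpr (blockDefect p B) D.C D.g hCs D.hred D.hpos hCg D.hdet with h | h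
  · exact_mod_cast le_trans hmain h
  · obtain ⟨e, he, h00, h01, h11, g00, g01, g10, g11⟩ := h
    exact card_block_le_of_diag hM hB H yH hyc hHy (n + 1) (Nat.le_add_left 1 n) hy' hind hdef D e
      he h00 h01 h11 g00 g01 g10 g11

end GLevel

end Cfsg.Agent.Helper78.Olsson

end
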