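import Cfsg.Agent.Helper78.Olsson.Defs
import Cfsg.Agent.Helper79.OlssonLAT
import Cfsg.Agent.Helper23.OlssonREB2
import Cfsg.Agent.Helper20.OlssonGRAM
import Cfsg.Agent.Helper20.OlssonRK1
import Cfsg.Agent.Helper55.OlssonDUAL

/-!
# Olsson's theorem: assembly of the reduced basic-set data of a block of rank two
-/

set_option autoImplicit false
set_option linter.style.haveILetI false
set_option linter.unusedSectionVars false
set_option linter.unusedVariables false

noncomputable section

namespace Cfsg.Agent.Helper78.Olsson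

open Cfsg
open scoped ComplexConjugate
open Cfsg.Agent.S4426 (cut)

section HLevel

variable {H : Type*} [Group H] [Fintype H] {M : Ideal AlgInt} {p : ℕ}

/-- (RD) assembly of the reduced data. -/
theorem exists_redData [Fact p.Prime] (hM : IsPModular p M) {b : Set (IrrCharacter H)}
    (hb : IsPBlock M b) (hl : blockRank p b = 2) : Nonempty (RedData p b) := by
  have hpr : p.Prime := Fact.out
  obtain ⟨L0⟩ := Helper79.Olsson.exists_latData hM hb hl
  obtain ⟨L, hred, hpos⟩ := Helper23.Olsson.LatData.exists_reduced L0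
  obtain ⟨g, hgs, hg⟩ := Helper20.Olsson.LatData.exists_gram hM hb L
  obtain ⟨hcl, hcut, hinner⟩ := Helper55.Olsson.LatData.dual_props hM hb L
  have hCG := Helper55.Olsson.cartan_mul_gram' hM hb L
  have hdet := Helper20.Olsson.LatData.dvd_det_gram hM hb L g hg
  have hpd0 : ((p ^ blockDefect p b : ℕ) : ℂ) ≠ 0 := by
    exact_mod_cast (pow_pos hpr.pos _).ne'
  have hCsymm : ∀ i j : Fin 2, L.C i j = L.C j i := by
    intro i j
    unfold LatData.C cartan
    exact Finset.sum_congr rfl (fun θ _ => mul_comm _ _)
  have hgsymm : ∀ i j : Fin 2, g i j = g j i := by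
    intro i j
    fin_cases i <;> fin_cases j
    · rfl
    · exact hgs
    · exact hgs.symm
    · rfl
  -- entries of `C * g`
  have hCgent : ∀ i k : Fin 2, ∑ j : Fin 2, L.C i j * g j k =
      if i = k then ((p ^ blockDefect p b : ℕ) : ℤ) else 0 := by
    intro i k
    have h1 : ((∑ j : Fin 2, L.C i j * g j k : ℤ) : ℂ) =
        ((p ^ blockDefect p b : ℕ) : ℂ) * (if i = k then (1 : ℂ) else 0) := by
      rw [← hCG i k, Finset.mul_sum]
      push_cast
      refine Finset.sum_congr rfl (fun j _ => ?_)
      rw [← hg j k]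
      push_cast
      ring
    have h2 : ((p ^ blockDefect p b : ℕ) : ℂ) * (if i = k then (1 : ℂ) else 0) =
        (((if i = k then ((p ^ blockDefect p b : ℕ) : ℤ) else 0 : ℤ)) : ℂ) := by
      split_ifs <;> simp
    rw [h2] at h1
    exact_mod_cast h1
  have hgCent : ∀ i k : Fin 2, ∑ j : Fin 2, g i j * L.C j k =
      if i = k then ((p ^ blockDefect p b : ℕ) : ℤ) else 0 := by
    intro i k
    have := hCgent k i
    rw [show (∑ j : Fin 2, g i j * L.C j k) = ∑ j : Fin 2, L.C k j * g j i from
      Finset.sum_congr rfl (fun j _ => by rw [hgsymm i j, hCsymm j k, mul_comm])]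
    rw [this]
    by_cases hik : i = k
    · rw [if_pos hik, if_pos hik.symm]
    · rw [if_neg hik, if_neg (fun h => hik h.symm)]
  refine ⟨{ f := L.dual, x := L.x, g := g, hcl := hcl, hcut := hcut, hinner := hinner,
            hx0 := L.hx0, hgs := hgs, hCg := ?_, hexp := ?_, hdet := hdet, hred := hred,
            hpos := hpos }⟩
  · ext i k
    rw [Matrix.mul_apply, Matrix.smul_apply, Matrix.one_apply]
    have := hCgent i k
    unfold LatData.C at this
    rw [this]
    split_ifs <;> simp
  · intro θ hθ h
    rw [L.hx θ hθ h]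
    have key : ∀ i : Fin 2, ∑ j : Fin 2, (L.x θ i : ℂ) * (g i j : ℂ) * L.dual j h =
        (L.x θ i : ℂ) * (((p ^ blockDefect p b : ℕ) : ℂ) * L.φ i h) := by
      intro i
      unfold LatData.dual
      have e1 : ∑ j : Fin 2, (L.x θ i : ℂ) * (g i j : ℂ) * ∑ l : Fin 2, (L.C j l : ℂ) * L.φ l h =
          (L.x θ i : ℂ) * ∑ l : Fin 2, ((∑ j : Fin 2, g i j * L.C j l : ℤ) : ℂ) * L.φ l h := by
        rw [Finset.mul_sum]
        simp only [Fin.sum_univ_two]
        push_cast
        ring
      rw [e1]
      congr 1
      rw [Finset.sum_eq_single i]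
      · rw [hgCent i i, if_pos rfl]
        push_cast
        ring
      · intro l _ hl
        rw [hgCent i l, if_neg (fun h => hl h.symm)]
        simp
      · intro hi
        exact absurd (Finset.mem_univ i) hi
    rw [Finset.sum_congr rfl (fun i _ => key i), Fin.sum_univ_two]
    ring

end HLevel

end Cfsg.Agent.Helper78.Olsson

end
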